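import Mathlib
import Groth.Prelude.Def_FibCat2

set_option linter.unusedSectionVars false
set_option linter.unusedVariables false
set_option linter.unusedSimpArgs false
set_option autoImplicit false
set_option linter.style.haveILetI false
set_option maxHeartbeats 400000

noncomputable section

namespace Groth.Agent.Helper6.FibCov

open CategoryTheory Functor

universe v u

variable {C : Type u} [Category.{v} C]

/-- `Over.map h` as a based functor. -/
abbrev ov {V U : C} (h : V ⟶ U) : FibCat.overCat V ⥤ᵇ FibCat.overCat U :=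
  ⟨Over.map h, Over.mapForget_eq h⟩

/-- composition of `ov` -/
def ovComp {W V U : C} (k : W ⟶ V) (h : V ⟶ U) :
    BasedFunctor.comp (ov k) (ov h) ≅ ov (k ≫ h) :=
  BasedNatIso.mkNatIso (Over.mapComp k h).symm (fun a => by
    have e : (Over.forget U).map ((Over.mapComp k h).symm.hom.app a) = 𝟙 _ := by
      simp [Over.mapComp]
    have := Functor.IsHomLift.map (p := Over.forget U) ((Over.mapComp k h).symm.hom.app a)
    rw [e] at this
    exact this)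

variable {𝒳 𝒴 𝒵 : BasedCategory.{v, max u v} C}

/-- right whiskering of isomorphisms of based functors -/
def wrIso {F G : 𝒳 ⥤ᵇ 𝒴} (e : F ≅ G) (H : 𝒴 ⥤ᵇ 𝒵) :
    BasedFunctor.comp F H ≅ BasedFunctor.comp G H :=
  Bicategory.whiskerRightIso (B := BasedCategory.{v, max u v} C) e H

/-- left whiskering of isomorphisms of based functors -/
def wlIso (F : 𝒳 ⥤ᵇ 𝒴) {G H : 𝒴 ⥤ᵇ 𝒵} (e : G ≅ H) :
    BasedFunctor.comp F G ≅ BasedFunctor.comp F H :=
  Bicategory.whiskerLeftIso (B := BasedCategory.{v, max u v} C) F e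

/-- The covering property of a based functor. -/
def IsCovering (J : GrothendieckTopology C) (H : 𝒳 ⥤ᵇ 𝒴) : Prop :=
  ∀ (U : C) (y : FibCat.overCat U ⥤ᵇ 𝒴), ∃ R ∈ J U, ∀ ⦃V : C⦄ (h : V ⟶ U), R.arrows h →
    ∃ x : FibCat.overCat V ⥤ᵇ 𝒳,
      Nonempty (BasedFunctor.comp x H ≅ BasedFunctor.comp (ov h) y)

theorem isCovering_comp (J : GrothendieckTopology C) (F : 𝒳 ⥤ᵇ 𝒴) (G : 𝒴 ⥤ᵇ 𝒵)
    (hF : IsCovering J F) (hG : IsCovering J G) : IsCovering J (BasedFunctor.comp F G) := by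
  intro U y
  obtain ⟨R, hR, hR'⟩ := hG U y
  let xh : ∀ ⦃V : C⦄ (h : V ⟶ U), R.arrows h → (FibCat.overCat V ⥤ᵇ 𝒴) :=
    fun V h hh => (hR' h hh).choose
  have eh : ∀ ⦃V : C⦄ (h : V ⟶ U) (hh : R.arrows h),
      Nonempty (BasedFunctor.comp (xh h hh) G ≅ BasedFunctor.comp (ov h) y) :=
    fun V h hh => (hR' h hh).choose_spec
  let Rh : ∀ ⦃V : C⦄ (h : V ⟶ U), R.arrows h → Sieve V :=
    fun V h hh => (hF V (xh h hh)).choose
  have hRh : ∀ ⦃V : C⦄ (h : V ⟶ U) (hh : R.arrows h), Rh h hh ∈ J V :=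
    fun V h hh => (hF V (xh h hh)).choose_spec.1
  have hRh' : ∀ ⦃V : C⦄ (h : V ⟶ U) (hh : R.arrows h) ⦃W : C⦄ (k : W ⟶ V), (Rh h hh).arrows k →
      ∃ z : FibCat.overCat W ⥤ᵇ 𝒳,
        Nonempty (BasedFunctor.comp z F ≅ BasedFunctor.comp (ov k) (xh h hh)) :=
    fun V h hh => (hF V (xh h hh)).choose_spec.2
  refine ⟨Sieve.bind R.arrows Rh, J.bind_covering hR hRh, ?_⟩
  rintro W m ⟨V, k, h, hh, hk, rfl⟩
  obtain ⟨z, ⟨e1⟩⟩ := hRh' h hh k hk
  obtain ⟨e2⟩ := eh h hh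
  refine ⟨z, ⟨?_⟩⟩
  exact (wrIso e1 G) ≪≫ (wlIso (ov k) e2) ≪≫ (wrIso (ovComp k h) y)

end Groth.Agent.Helper6.FibCov
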