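import Mathlib
import Groth.Agent.Lib.Helper6.Fib.Covering

set_option linter.unusedSectionVars false
set_option linter.unusedVariables false
set_option linter.unusedSimpArgs false
set_option autoImplicit false
set_option linter.style.haveILetI false
set_option maxHeartbeats 400000

noncomputable section

namespace Groth.Agent.Helper6.FibCov

open CategoryTheory Functor

universe v u

variable {C : Type u} [Category.{v} C] {𝒳 𝒴 𝒵 : BasedCategory.{v, max u v} C}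

theorem fpLift_comp_fpFst {𝒲 : BasedCategory.{v, max u v} C} (G : 𝒵 ⥤ᵇ 𝒴) (F : 𝒳 ⥤ᵇ 𝒴)
    (a : 𝒲 ⥤ᵇ 𝒵) (b : 𝒲 ⥤ᵇ 𝒳)
    (e : BasedFunctor.comp a G ≅ BasedFunctor.comp b F) :
    BasedFunctor.comp (FibCat.fpLift a b e) (FibCat.fpFst G F) = a := rfl

theorem isCovering_fpFst (J : GrothendieckTopology C) (F : 𝒳 ⥤ᵇ 𝒴) (G : 𝒵 ⥤ᵇ 𝒴)
    (hF : IsCovering J F) : IsCovering J (FibCat.fpFst G F) := by
  intro U y
  obtain ⟨R, hR, hR'⟩ := hF U (BasedFunctor.comp y G)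
  refine ⟨R, hR, ?_⟩
  intro V h hh
  obtain ⟨x, ⟨e⟩⟩ := hR' h hh
  let a : FibCat.overCat V ⥤ᵇ 𝒵 := BasedFunctor.comp (ov h) y
  have e' : BasedFunctor.comp a G ≅ BasedFunctor.comp x F := e.symm
  refine ⟨FibCat.fpLift a x e', ⟨?_⟩⟩
  exact eqToIso (fpLift_comp_fpFst G F a x e')

end Groth.Agent.Helper6.FibCov
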