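import Mathlib
import Groth.Prelude.Def_W4stkcategoriessitesFib

set_option linter.unusedSectionVars false
set_option linter.unusedVariables false
set_option linter.unusedSimpArgs false
set_option autoImplicit false
set_option linter.style.haveILetI false
set_option maxHeartbeats 400000

noncomputable section

namespace Groth.Agent.Helper6.FibFactor

open CategoryTheory Functor

universe v u

variable {C : Type u} [Category.{v} C] {𝒳 𝒴 : BasedCategory.{v, max u v} C} (F : 𝒳 ⥤ᵇ 𝒴)

/-- Objects of the factorization category: `(x, y, f : y ⟶ F x)` with `f` over an identity. -/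
structure Obj where
  x : 𝒳.obj
  y : 𝒴.obj
  f : y ⟶ F.obj x
  hf : 𝒴.p.IsHomLift (𝟙 (𝒳.p.obj x)) f

variable {F}

theorem Obj.y_proj (A : Obj F) : 𝒴.p.obj A.y = 𝒳.p.obj A.x :=
  haveI := A.hf
  IsHomLift.domain_eq 𝒴.p (𝟙 (𝒳.p.obj A.x)) A.f

/-- Morphisms of the factorization category. -/
@[ext]
structure Hom (A B : Obj F) where
  a : A.x ⟶ B.x
  b : A.y ⟶ B.y
  w : A.f ≫ F.map a = b ≫ B.f
  hb : 𝒴.p.IsHomLift (𝒳.p.map a) b

instance : Category (Obj F) where
  Hom := Hom
  id A := ⟨𝟙 _, 𝟙 _, by simp, by rw [𝒳.p.map_id]; exact IsHomLift.id A.y_proj⟩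
  comp f g := ⟨f.a ≫ g.a, f.b ≫ g.b,
    by rw [F.map_comp, ← Category.assoc, f.w, Category.assoc, g.w, Category.assoc],
    by rw [𝒳.p.map_comp]; haveI := f.hb; haveI := g.hb; infer_instance⟩
  id_comp f := Hom.ext (Category.id_comp _) (Category.id_comp _)
  comp_id f := Hom.ext (Category.comp_id _) (Category.comp_id _)
  assoc f g h := Hom.ext (Category.assoc _ _ _) (Category.assoc _ _ _)

@[ext] theorem hom_ext {A B : Obj F} {f g : A ⟶ B} (ha : f.a = g.a) (hb : f.b = g.b) : f = g :=
  Hom.ext ha hb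

@[simp] theorem id_a (A : Obj F) : (𝟙 A : A ⟶ A).a = 𝟙 A.x := rfl
@[simp] theorem id_b (A : Obj F) : (𝟙 A : A ⟶ A).b = 𝟙 A.y := rfl
@[simp] theorem comp_a {A B D : Obj F} (f : A ⟶ B) (g : B ⟶ D) : (f ≫ g).a = f.a ≫ g.a := rfl
@[simp] theorem comp_b {A B D : Obj F} (f : A ⟶ B) (g : B ⟶ D) : (f ≫ g).b = f.b ≫ g.b := rfl

variable (F)

/-- The structure functor of the factorization category. -/
abbrev P : Obj F ⥤ C where
  obj A := 𝒳.p.obj A.x
  map h := 𝒳.p.map h.a

/-- The factorization category as a based category. -/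
abbrev X' : BasedCategory.{v, max u v} C where
  obj := Obj F
  p := P F

/-- `x ↦ (x, F x, 𝟙)`. -/
abbrev uF : 𝒳 ⥤ᵇ X' F where
  toFunctor :=
    { obj := fun x => ⟨x, F.obj x, 𝟙 _, inferInstance⟩
      map := fun a => ⟨a, F.map a, by simp, inferInstance⟩
      map_id := fun x => by
        apply hom_ext
        · rfl
        · exact F.toFunctor.map_id x
      map_comp := fun a b => by
        apply hom_ext
        · rfl
        · exact F.toFunctor.map_comp a b }
  w := rfl

/-- `(x, y, f) ↦ y`. -/
abbrev vF : X' F ⥤ᵇ 𝒴 where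
  toFunctor :=
    { obj := fun A => A.y
      map := fun h => h.b }
  w := by
    refine CategoryTheory.Functor.ext ?_ ?_
    · intro A
      exact Obj.y_proj A
    · intro A B h
      haveI := h.hb
      exact IsHomLift.fac' 𝒴.p (𝒳.p.map h.a) h.b

/-- `(x, y, f) ↦ x`. -/
abbrev wF : X' F ⥤ᵇ 𝒳 where
  toFunctor :=
    { obj := fun A => A.x
      map := fun h => h.a }
  w := rfl

theorem comp_uF_vF : BasedFunctor.comp (uF F) (vF F) = F := rfl

/-- The adjunction `w ⊣ u`. -/
def adj : (wF F).toFunctor ⊣ (uF F).toFunctor :=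
  Adjunction.mkOfHomEquiv
    { homEquiv := fun A x =>
        { toFun := fun (a : A.x ⟶ x) => ⟨a, A.f ≫ F.map a, by simp [uF], by
            haveI : 𝒴.p.IsHomLift (𝟙 (𝒳.p.obj A.x)) A.f := A.hf
            exact inferInstanceAs (𝒴.p.IsHomLift (𝒳.p.map a) (A.f ≫ F.map a))⟩
          invFun := fun h => h.a
          left_inv := fun _ => rfl
          right_inv := fun h => by
            apply hom_ext
            · rfl
            · have := h.w
              simpa [uF] using this }
      homEquiv_naturality_left_symm := fun _ _ => rfl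
      homEquiv_naturality_right := fun {A x x'} a g => by
        apply hom_ext
        · rfl
        · change A.f ≫ F.map (a ≫ g) = (A.f ≫ F.map a) ≫ F.map g
          rw [Category.assoc]
          congr 1
          exact F.toFunctor.map_comp a g }

instance : (uF F).toFunctor.Faithful where
  map_injective := fun {x y} a b h => congrArg Hom.a h

instance : (uF F).toFunctor.Full where
  map_surjective := fun {x y} h => ⟨h.a, by
    apply hom_ext
    · rfl
    · have := h.w
      simpa [uF] using this⟩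

variable {F}

theorem isHomLift_P_iff {R S : C} (g : R ⟶ S) {A B : Obj F} (h : A ⟶ B) :
    (P F).IsHomLift g h ↔ 𝒳.p.IsHomLift g h.a := by
  constructor
  · intro hh
    exact IsHomLift.of_fac 𝒳.p g h.a (IsHomLift.domain_eq (P F) g h)
      (IsHomLift.codomain_eq (P F) g h) (IsHomLift.fac (P F) g h)
  · intro hh
    exact IsHomLift.of_fac (P F) g h (IsHomLift.domain_eq 𝒳.p g h.a)
      (IsHomLift.codomain_eq 𝒳.p g h.a) (IsHomLift.fac 𝒳.p g h.a)

end Groth.Agent.Helper6.FibFactor
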