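import Mathlib
import Groth.Agent.Lib.Helper6.Fib.Factor

set_option linter.unusedSectionVars false
set_option linter.unusedVariables false
set_option linter.unusedSimpArgs false
set_option autoImplicit false
set_option linter.style.haveILetI false
set_option maxHeartbeats 400000

noncomputable section

namespace Groth.Agent.Helper6.FibFactor

open CategoryTheory Functor

universe v u

variable {C : Type u} [Category.{v} C] {𝒳 𝒴 : BasedCategory.{v, max u v} C} {F : 𝒳 ⥤ᵇ 𝒴}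
  (hF : FibCat.PreservesStronglyCartesian F)

/-- two base morphisms lifted by the same morphism agree -/
theorem base_eq_of_isHomLift {𝒵 : Type*} [Category 𝒵] (p : 𝒵 ⥤ C) {R S : C} (f f' : R ⟶ S)
    {a b : 𝒵} (φ : a ⟶ b) [p.IsHomLift f φ] [p.IsHomLift f' φ] : f = f' :=
  (IsHomLift.fac p f φ).trans (IsHomLift.fac p f' φ).symm

theorem isHomLift_of_map {R S : C} (f : R ⟶ S) {x₁ x₂ : 𝒳.obj} {a : x₁ ⟶ x₂}
    [h : 𝒳.p.IsHomLift f a] {y₁ y₂ : 𝒴.obj} {b : y₁ ⟶ y₂} (hb : 𝒴.p.IsHomLift (𝒳.p.map a) b) :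
    𝒴.p.IsHomLift f b := by
  cases h
  exact hb

include hF in
theorem sc_Fmap {x' x : 𝒳.obj} (α : x' ⟶ x) [𝒳.p.IsStronglyCartesian (𝒳.p.map α) α] :
    𝒴.p.IsStronglyCartesian (𝒳.p.map α) (F.map α) := hF _ α inferInstance

section Lift

/-- The structure morphism of the lifted object. -/
def liftF (A : Obj F) {x' : 𝒳.obj} (α : x' ⟶ A.x) [𝒳.p.IsStronglyCartesian (𝒳.p.map α) α]
    {y₁ : 𝒴.obj} (b : y₁ ⟶ A.y) [𝒴.p.IsHomLift (𝒳.p.map α) b] : y₁ ⟶ F.obj x' :=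
  haveI := sc_Fmap hF α
  haveI : 𝒴.p.IsHomLift (𝟙 (𝒳.p.obj A.x)) A.f := A.hf
  IsStronglyCartesian.map 𝒴.p (𝒳.p.map α) (F.map α) (f' := 𝒳.p.map α) (g := 𝟙 _)
    (Category.id_comp _).symm (b ≫ A.f)

instance liftF_isHomLift (A : Obj F) {x' : 𝒳.obj} (α : x' ⟶ A.x)
    [𝒳.p.IsStronglyCartesian (𝒳.p.map α) α]
    {y₁ : 𝒴.obj} (b : y₁ ⟶ A.y) [𝒴.p.IsHomLift (𝒳.p.map α) b] :
    𝒴.p.IsHomLift (𝟙 (𝒳.p.obj x')) (liftF hF A α b) := by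
  haveI := sc_Fmap hF α
  haveI : 𝒴.p.IsHomLift (𝟙 (𝒳.p.obj A.x)) A.f := A.hf
  unfold liftF
  infer_instance

theorem liftF_fac (A : Obj F) {x' : 𝒳.obj} (α : x' ⟶ A.x)
    [𝒳.p.IsStronglyCartesian (𝒳.p.map α) α]
    {y₁ : 𝒴.obj} (b : y₁ ⟶ A.y) [𝒴.p.IsHomLift (𝒳.p.map α) b] :
    liftF hF A α b ≫ F.map α = b ≫ A.f := by
  haveI := sc_Fmap hF α
  haveI : 𝒴.p.IsHomLift (𝟙 (𝒳.p.obj A.x)) A.f := A.hf
  unfold liftF
  exact IsStronglyCartesian.fac 𝒴.p (𝒳.p.map α) (F.map α) _ (b ≫ A.f)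

/-- The lifted object. -/
abbrev liftObj (A : Obj F) {x' : 𝒳.obj} (α : x' ⟶ A.x) [𝒳.p.IsStronglyCartesian (𝒳.p.map α) α]
    {y₁ : 𝒴.obj} (b : y₁ ⟶ A.y) [𝒴.p.IsHomLift (𝒳.p.map α) b] : Obj F :=
  ⟨x', y₁, liftF hF A α b, liftF_isHomLift hF A α b⟩

/-- The lifted morphism. -/
def liftHom (A : Obj F) {x' : 𝒳.obj} (α : x' ⟶ A.x) [𝒳.p.IsStronglyCartesian (𝒳.p.map α) α]
    {y₁ : 𝒴.obj} (b : y₁ ⟶ A.y) [hb : 𝒴.p.IsHomLift (𝒳.p.map α) b] : liftObj hF A α b ⟶ A :=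
  ⟨α, b, liftF_fac hF A α b, hb⟩

variable (A : Obj F) {x' : 𝒳.obj} (α : x' ⟶ A.x) [𝒳.p.IsStronglyCartesian (𝒳.p.map α) α]
  {y₁ : 𝒴.obj} (b : y₁ ⟶ A.y) [𝒴.p.IsHomLift (𝒳.p.map α) b]

@[simp] theorem liftHom_a : (liftHom hF A α b).a = α := rfl
@[simp] theorem liftHom_b : (liftHom hF A α b).b = b := rfl

include hF in
/-- equality of morphisms into the lifted object's structure target -/
theorem ext_to_Fx' {R : C} {y₂ : 𝒴.obj} (k : R ⟶ 𝒳.p.obj x') (m m' : y₂ ⟶ F.obj x')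
    [𝒴.p.IsHomLift k m] [𝒴.p.IsHomLift k m'] (h : m ≫ F.map α = m' ≫ F.map α) : m = m' := by
  haveI := sc_Fmap hF α
  exact IsStronglyCartesian.ext 𝒴.p (𝒳.p.map α) (F.map α) k h

/-- The lifted morphism is strongly cartesian for the structure functor to `C`. -/
theorem liftHom_sc_P [𝒴.p.IsStronglyCartesian (𝒳.p.map α) b] :
    (P F).IsStronglyCartesian (𝒳.p.map α) (liftHom hF A α b) := by
  haveI h0 : (P F).IsHomLift (𝒳.p.map α) (liftHom hF A α b) :=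
    (isHomLift_P_iff _ _).2 (inferInstanceAs (𝒳.p.IsHomLift (𝒳.p.map α) α))
  refine { universal_property' := ?_ }
  intro A₂ (k : 𝒳.p.obj A₂.x ⟶ 𝒳.p.obj x') φ' hφ'
  haveI h1 : 𝒳.p.IsHomLift (k ≫ 𝒳.p.map α) φ'.a := (isHomLift_P_iff _ _).1 hφ'
  have hf' : 𝒳.p.map φ'.a = k ≫ 𝒳.p.map α := (IsHomLift.eq_of_isHomLift 𝒳.p _ φ'.a).symm
  haveI h2 : 𝒴.p.IsHomLift (𝒳.p.map φ'.a) φ'.b := φ'.hb
  let a' : A₂.x ⟶ x' := IsStronglyCartesian.map 𝒳.p (𝒳.p.map α) α (g := k) rfl φ'.a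
  let b' : A₂.y ⟶ y₁ := IsStronglyCartesian.map 𝒴.p (𝒳.p.map α) b (g := k) hf' φ'.b
  haveI ha' : 𝒳.p.IsHomLift k a' := inferInstance
  haveI hb' : 𝒴.p.IsHomLift k b' := inferInstance
  have hka : 𝒳.p.map a' = k := (IsHomLift.eq_of_isHomLift 𝒳.p k a').symm
  have e1 : a' ≫ α = φ'.a := IsStronglyCartesian.fac 𝒳.p (𝒳.p.map α) α rfl φ'.a
  have e2 : b' ≫ b = φ'.b := IsStronglyCartesian.fac 𝒴.p (𝒳.p.map α) b hf' φ'.b
  haveI : 𝒴.p.IsHomLift (𝟙 (𝒳.p.obj A₂.x)) A₂.f := A₂.hf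
  have hw : A₂.f ≫ F.map a' = b' ≫ liftF hF A α b := by
    haveI : 𝒴.p.IsHomLift k (A₂.f ≫ F.map a') := inferInstance
    haveI : 𝒴.p.IsHomLift k (b' ≫ liftF hF A α b) := inferInstance
    apply ext_to_Fx' hF A α k
    rw [Category.assoc, Category.assoc, liftF_fac, ← F.map_comp, e1, φ'.w, ← Category.assoc, e2]
  have hb'' : 𝒴.p.IsHomLift (𝒳.p.map a') b' := by rw [hka]; exact hb'
  let χ : A₂ ⟶ liftObj hF A α b := ⟨a', b', hw, hb''⟩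
  refine ⟨χ, ⟨(isHomLift_P_iff _ _).2 ha', hom_ext e1 e2⟩, ?_⟩
  rintro χ' ⟨hχ', hχ'2⟩
  haveI h3 : 𝒳.p.IsHomLift k χ'.a := (isHomLift_P_iff _ _).1 hχ'
  have hk2 : 𝒳.p.map χ'.a = k := (IsHomLift.eq_of_isHomLift 𝒳.p k χ'.a).symm
  haveI h4 : 𝒴.p.IsHomLift k χ'.b := by
    have := χ'.hb
    rw [hk2] at this
    exact this
  have e3 : χ'.a ≫ α = φ'.a := congrArg Hom.a hχ'2
  have e4 : χ'.b ≫ b = φ'.b := congrArg Hom.b hχ'2
  apply hom_ext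
  · exact IsStronglyCartesian.map_uniq 𝒳.p (𝒳.p.map α) α rfl φ'.a χ'.a e3
  · exact IsStronglyCartesian.map_uniq 𝒴.p (𝒳.p.map α) b hf' φ'.b χ'.b e4

/-- The lifted morphism is strongly cartesian for the functor `v` to `𝒴`. -/
theorem liftHom_sc_V :
    (vF F).toFunctor.IsStronglyCartesian b (liftHom hF A α b) := by
  haveI h0 : (vF F).toFunctor.IsHomLift b (liftHom hF A α b) :=
    Functor.IsHomLift.map (p := (vF F).toFunctor) (liftHom hF A α b)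
  refine { universal_property' := ?_ }
  intro A₂ (k : A₂.y ⟶ y₁) φ' hφ'
  have hφb : φ'.b = k ≫ b :=
    (@IsHomLift.eq_of_isHomLift _ _ _ _ (vF F).toFunctor A₂ A (k ≫ b) φ' hφ').symm
  haveI h2 : 𝒴.p.IsHomLift (𝒳.p.map φ'.a) φ'.b := φ'.hb
  have hy₁ : 𝒴.p.obj y₁ = 𝒳.p.obj x' := IsHomLift.domain_eq 𝒴.p (𝒳.p.map α) b
  let t : 𝒳.p.obj A₂.x ⟶ 𝒳.p.obj x' := eqToHom A₂.y_proj.symm ≫ 𝒴.p.map k ≫ eqToHom hy₁
  haveI hk : 𝒴.p.IsHomLift t k := IsHomLift.of_fac 𝒴.p t k A₂.y_proj hy₁ rfl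
  haveI h5 : 𝒴.p.IsHomLift (t ≫ 𝒳.p.map α) φ'.b := by rw [hφb]; infer_instance
  have hf' : 𝒳.p.map φ'.a = t ≫ 𝒳.p.map α := base_eq_of_isHomLift 𝒴.p _ _ φ'.b
  let a' : A₂.x ⟶ x' := IsStronglyCartesian.map 𝒳.p (𝒳.p.map α) α (g := t) hf' φ'.a
  haveI ha' : 𝒳.p.IsHomLift t a' := inferInstance
  have hka : 𝒳.p.map a' = t := (IsHomLift.eq_of_isHomLift 𝒳.p t a').symm
  have e1 : a' ≫ α = φ'.a := IsStronglyCartesian.fac 𝒳.p (𝒳.p.map α) α hf' φ'.a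
  haveI : 𝒴.p.IsHomLift (𝟙 (𝒳.p.obj A₂.x)) A₂.f := A₂.hf
  have hw : A₂.f ≫ F.map a' = k ≫ liftF hF A α b := by
    haveI : 𝒴.p.IsHomLift t (A₂.f ≫ F.map a') := inferInstance
    haveI : 𝒴.p.IsHomLift t (k ≫ liftF hF A α b) := inferInstance
    apply ext_to_Fx' hF A α t
    rw [Category.assoc, Category.assoc, liftF_fac, ← F.map_comp, e1, φ'.w, hφb, Category.assoc]
  have hk'' : 𝒴.p.IsHomLift (𝒳.p.map a') k := by rw [hka]; exact hk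
  let χ : A₂ ⟶ liftObj hF A α b := ⟨a', k, hw, hk''⟩
  haveI hχ : (vF F).toFunctor.IsHomLift k χ :=
    Functor.IsHomLift.map (p := (vF F).toFunctor) χ
  refine ⟨χ, ⟨hχ, hom_ext e1 hφb.symm⟩, ?_⟩
  rintro χ' ⟨hχ', hχ'2⟩
  have hkb : χ'.b = k :=
    (@IsHomLift.eq_of_isHomLift _ _ _ _ (vF F).toFunctor A₂ (liftObj hF A α b) k χ' hχ').symm
  have e3 : χ'.a ≫ α = φ'.a := congrArg Hom.a hχ'2
  haveI h6 : 𝒴.p.IsHomLift (𝒳.p.map χ'.a) k := by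
    have := χ'.hb
    rw [hkb] at this
    exact this
  have hk2 : 𝒳.p.map χ'.a = t := base_eq_of_isHomLift 𝒴.p _ _ k
  haveI h3 : 𝒳.p.IsHomLift t χ'.a := by rw [← hk2]; infer_instance
  apply hom_ext
  · exact IsStronglyCartesian.map_uniq 𝒳.p (𝒳.p.map α) α hf' φ'.a χ'.a e3
  · exact hkb

end Lift

variable [𝒳.p.IsFibered] [𝒴.p.IsFibered]

include hF in
theorem exists_sc_P (A : Obj F) {V : C} (g : V ⟶ 𝒳.p.obj A.x) :
    ∃ (A' : Obj F) (c : A' ⟶ A), (P F).IsStronglyCartesian g c ∧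
      𝒳.p.IsStronglyCartesian g c.a ∧ 𝒴.p.IsStronglyCartesian g c.b := by
  obtain ⟨x', α, hα⟩ := IsPreFibered.exists_isCartesian 𝒳.p (rfl : 𝒳.p.obj A.x = _) g
  have hV := IsHomLift.domain_eq 𝒳.p g α
  subst hV
  have hg : g = 𝒳.p.map α := IsHomLift.eq_of_isHomLift 𝒳.p g α
  subst hg
  haveI : 𝒳.p.IsStronglyCartesian (𝒳.p.map α) α := inferInstance
  obtain ⟨y', β, hβ⟩ := IsPreFibered.exists_isCartesian 𝒴.p A.y_proj (𝒳.p.map α)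
  haveI : 𝒴.p.IsStronglyCartesian (𝒳.p.map α) β := inferInstance
  refine ⟨liftObj hF A α β, liftHom hF A α β, liftHom_sc_P hF A α β, ?_, ?_⟩
  · change 𝒳.p.IsStronglyCartesian (𝒳.p.map α) α
    infer_instance
  · change 𝒴.p.IsStronglyCartesian (𝒳.p.map α) β
    infer_instance

include hF in
theorem isFibered_P : (P F).IsFibered :=
  IsFibered.of_exists_isStronglyCartesian (fun A V g => by
    obtain ⟨A', c, h, -, -⟩ := exists_sc_P hF A g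
    exact ⟨A', c, h⟩)

include hF in
theorem exists_sc_V_aux (A : Obj F) {R : C} (g : R ⟶ 𝒳.p.obj A.x) {y₁ : 𝒴.obj} (b : y₁ ⟶ A.y)
    [𝒴.p.IsHomLift g b] :
    ∃ (A₁ : Obj F) (c : A₁ ⟶ A), (vF F).toFunctor.IsStronglyCartesian b c := by
  obtain ⟨x', α, hα⟩ := IsPreFibered.exists_isCartesian 𝒳.p (rfl : 𝒳.p.obj A.x = _) g
  have hV := IsHomLift.domain_eq 𝒳.p g α
  subst hV
  have hg : g = 𝒳.p.map α := IsHomLift.eq_of_isHomLift 𝒳.p g α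
  subst hg
  haveI : 𝒳.p.IsStronglyCartesian (𝒳.p.map α) α := inferInstance
  exact ⟨liftObj hF A α b, liftHom hF A α b, liftHom_sc_V hF A α b⟩

include hF in
theorem isFibered_V : (vF F).toFunctor.IsFibered :=
  IsFibered.of_exists_isStronglyCartesian (fun A y₁ (b : y₁ ⟶ A.y) => by
    exact exists_sc_V_aux hF A (𝒴.p.map b ≫ eqToHom A.y_proj) b)

include hF in
theorem preserves_w_v {R S : C} (g : R ⟶ S) {A₁ A : Obj F} (h : A₁ ⟶ A)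
    [(P F).IsStronglyCartesian g h] :
    𝒳.p.IsStronglyCartesian g h.a ∧ 𝒴.p.IsStronglyCartesian g h.b := by
  have hS := IsHomLift.codomain_eq (P F) g h
  subst hS
  obtain ⟨A', c, hc, hca, hcb⟩ := exists_sc_P hF A g
  let e : A₁ ≅ A' := IsCartesian.domainUniqueUpToIso (P F) g c h
  have he : e.hom ≫ c = h := IsCartesian.fac (P F) g c h
  haveI he1 : (P F).IsHomLift (𝟙 R) e.hom := inferInstance
  haveI he2 : 𝒳.p.IsHomLift (𝟙 R) e.hom.a := (isHomLift_P_iff _ _).1 he1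
  haveI he3 : 𝒴.p.IsHomLift (𝟙 R) e.hom.b := isHomLift_of_map (𝟙 R) e.hom.hb
  let ea : A₁.x ≅ A'.x := (wF F).toFunctor.mapIso e
  let eb : A₁.y ≅ A'.y := (vF F).toFunctor.mapIso e
  haveI : 𝒳.p.IsHomLift (𝟙 R) ea.hom := he2
  haveI : 𝒴.p.IsHomLift (𝟙 R) eb.hom := he3
  haveI : 𝒳.p.IsCartesian g c.a := inferInstance
  haveI : 𝒴.p.IsCartesian g c.b := inferInstance
  have h1 : h.a = ea.hom ≫ c.a := (congrArg Hom.a he).symm
  have h2 : h.b = eb.hom ≫ c.b := (congrArg Hom.b he).symm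
  constructor
  · rw [h1]
    haveI : 𝒳.p.IsCartesian g (ea.hom ≫ c.a) := inferInstance
    infer_instance
  · rw [h2]
    haveI : 𝒴.p.IsCartesian g (eb.hom ≫ c.b) := inferInstance
    infer_instance

theorem preserves_u {R S : C} (g : R ⟶ S) {x₁ x : 𝒳.obj} (a : x₁ ⟶ x)
    [𝒳.p.IsStronglyCartesian g a] :
    (P F).IsStronglyCartesian g ((uF F).toFunctor.map a) := by
  haveI h0 : (P F).IsHomLift g ((uF F).toFunctor.map a) :=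
    (isHomLift_P_iff _ _).2 (inferInstanceAs (𝒳.p.IsHomLift g a))
  refine { universal_property' := ?_ }
  intro A₂ (k : 𝒳.p.obj A₂.x ⟶ R) φ' hφ'
  have h1' : 𝒳.p.IsHomLift (k ≫ g) φ'.a := (isHomLift_P_iff _ _).1 hφ'
  obtain ⟨φa, φb, φw, φhb⟩ := φ'
  change A₂.x ⟶ x at φa
  change A₂.y ⟶ F.obj x at φb
  change A₂.f ≫ F.map φa = φb ≫ 𝟙 _ at φw
  change 𝒳.p.IsHomLift (k ≫ g) φa at h1'
  haveI h1 : 𝒳.p.IsHomLift (k ≫ g) φa := h1'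
  rw [Category.comp_id] at φw
  obtain ⟨a', ha', e1⟩ : ∃ a' : A₂.x ⟶ x₁, 𝒳.p.IsHomLift k a' ∧ a' ≫ a = φa :=
    ⟨IsStronglyCartesian.map 𝒳.p g a (g := k) rfl φa, inferInstance,
      IsStronglyCartesian.fac 𝒳.p g a rfl φa⟩
  haveI := ha'
  haveI : 𝒴.p.IsHomLift (𝟙 (𝒳.p.obj A₂.x)) A₂.f := A₂.hf
  let χ : A₂ ⟶ (uF F).toFunctor.obj x₁ :=
    ⟨a', A₂.f ≫ F.map a', (Category.comp_id _).symm,
      inferInstanceAs (𝒴.p.IsHomLift (𝒳.p.map a') (A₂.f ≫ F.map a'))⟩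
  refine ⟨χ, ⟨(isHomLift_P_iff _ _).2 ha', ?_⟩, ?_⟩
  · apply hom_ext
    · exact e1
    · change (A₂.f ≫ F.map a') ≫ F.map a = φb
      rw [Category.assoc, ← F.map_comp, e1, φw]
  · rintro χ' ⟨hχ', hχ'2⟩
    haveI h3 : 𝒳.p.IsHomLift k χ'.a := (isHomLift_P_iff _ _).1 hχ'
    have e3 : χ'.a ≫ a = φa := congrArg Hom.a hχ'2
    have ha : χ'.a = a' := by
      have u1 := IsStronglyCartesian.map_uniq 𝒳.p g a (g := k) rfl φa χ'.a e3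
      have u2 := IsStronglyCartesian.map_uniq 𝒳.p g a (g := k) rfl φa a' e1
      exact u1.trans u2.symm
    apply hom_ext
    · exact ha
    · have h4 : A₂.f ≫ F.map χ'.a = χ'.b ≫ 𝟙 _ := χ'.w
      rw [Category.comp_id] at h4
      change χ'.b = A₂.f ≫ F.map a'
      rw [← h4, ha]

end Groth.Agent.Helper6.FibFactor
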